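import Groth.Agent.Blanchard.Descend
import Groth.Agent.GrpSchLib.FieldComp
import Groth.Agent.FpqcDescLib.Group
import Groth.Prelude.Def_AlgGrp
import Mathlib.CategoryTheory.Monoidal.Cartesian.Grp

/-! Blanchard's lemma: an action of a connected group is constant on the fibres of `G ⊗ X ⟶ G ⊗ Y`. -/

universe u

open CategoryTheory MonoidalCategory CartesianMonoidalCategory MonObj GrpObj AlgebraicGeometry Limits TopologicalSpace

namespace Groth.Agent.Blanchard

theorem factor_affine {X Y Z : Scheme.{u}} (f : X ⟶ Y) (h : X ⟶ Z) (W : Y.Opens) (hW : IsIso (f.app W))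
    {V : Z.Opens} (hV : IsAffineOpen V) (e : f ⁻¹ᵁ W ≤ h ⁻¹ᵁ V) :
    ∃ g : (W : Scheme.{u}) ⟶ Z, (f ∣_ W) ≫ g = (f ⁻¹ᵁ W).ι ≫ h := by
  haveI : IsAffine (V : Scheme.{u}) := hV
  haveI : IsIso (f ∣_ W).appTop := by
    show IsIso ((f ∣_ W).app ⊤)
    rw [morphismRestrict_app]
    have h1 : IsIso (f.app (W.ι ''ᵁ ⊤)) := by rw [Scheme.Opens.ι_image_top]; exact hW
    exact @IsIso.comp_isIso _ _ _ _ _ _ _ h1 (Functor.map_isIso _ _)
  let ψ := (h.resLE V (f ⁻¹ᵁ W) e).appTop ≫ inv (f ∣_ W).appTop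
  let g : (W : Scheme.{u}) ⟶ V := (W : Scheme.{u}).toSpecΓ ≫ Spec.map ψ ≫ (V : Scheme.{u}).isoSpec.inv
  refine ⟨g ≫ V.ι, ?_⟩
  have hg : (f ∣_ W) ≫ g = h.resLE V (f ⁻¹ᵁ W) e := by
    refine (cancel_mono (V : Scheme.{u}).isoSpec.hom).1 ?_
    simp only [g, Category.assoc, Iso.inv_hom_id, Category.comp_id]
    rw [Scheme.isoSpec_hom, Scheme.toSpecΓ_naturality_assoc, Scheme.toSpecΓ_naturality, ← Spec.map_comp]
    simp [ψ]
  rw [reassoc_of% hg, Scheme.Hom.resLE_comp_ι]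

/-- The points of the target near which `h` factors through `f`. -/
def factorLocus {X Y Z : Scheme.{u}} (f : X ⟶ Y) (h : X ⟶ Z) : Set Y :=
  {w | ∃ N : Y.Opens, w ∈ N ∧ ∃ g : (N : Scheme.{u}) ⟶ Z, (f ∣_ N) ≫ g = (f ⁻¹ᵁ N).ι ≫ h}

theorem isOpen_factorLocus {X Y Z : Scheme.{u}} (f : X ⟶ Y) (h : X ⟶ Z) : IsOpen (factorLocus f h) :=
  isOpen_iff_mem_nhds.2 fun _ ⟨N, hw, hN⟩ =>
    Filter.mem_of_superset (N.isOpen.mem_nhds hw) fun _ hv => ⟨N, hv, hN⟩

theorem comp_eq_of_mem {X Y Z T : Scheme.{u}} [Subsingleton T] {f : X ⟶ Y} {h : X ⟶ Z} (t₁ t₂ : T ⟶ X)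
    (ht : t₁ ≫ f = t₂ ≫ f) (p : T) (hp : (t₁ ≫ f) p ∈ factorLocus f h) : t₁ ≫ h = t₂ ≫ h := by
  obtain ⟨N, hN, g, hg⟩ := hp
  have hr : ∀ t : T ⟶ X, t ≫ f = t₁ ≫ f → ∃ l : T ⟶ (f ⁻¹ᵁ N : Scheme.{u}), l ≫ (f ⁻¹ᵁ N).ι = t := by
    intro t e
    refine ⟨IsOpenImmersion.lift (f ⁻¹ᵁ N).ι t ?_, IsOpenImmersion.lift_fac _ _ _⟩
    rintro _ ⟨q, rfl⟩
    rw [Scheme.Opens.range_ι, Subsingleton.elim q p]
    show f (t p) ∈ N
    rw [← Scheme.Hom.comp_apply, e]
    exact hN
  obtain ⟨l₁, hl₁⟩ := hr t₁ rfl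
  obtain ⟨l₂, hl₂⟩ := hr t₂ ht.symm
  have hl : l₁ ≫ (f ∣_ N) = l₂ ≫ (f ∣_ N) := by
    rw [← cancel_mono N.ι, Category.assoc, Category.assoc, morphismRestrict_ι, reassoc_of% hl₁,
      reassoc_of% hl₂, ht]
  rw [← hl₁, ← hl₂, Category.assoc, Category.assoc, ← hg, reassoc_of% hl]

/-- Tube lemma. -/
theorem mem_factorLocus_of_const {X Y Z : Scheme.{u}} {f : X ⟶ Y} [UniversallyClosed f] (hf : IsoOnBasis f)
    (h : X ⟶ Z) (w : Y) (z : Z) (hw : ∀ p : X, f p = w → h p = z) : w ∈ factorLocus f h := by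
  obtain ⟨V, hV, hzV, -⟩ := exists_isAffineOpen_mem_and_subset (show z ∈ (⊤ : Z.Opens) from trivial)
  let N : Y.Opens := ⟨(f '' (h ⁻¹' (V : Set Z))ᶜ)ᶜ,
    (f.isClosedMap _ (V.isOpen.preimage h.continuous).isClosed_compl).isOpen_compl⟩
  have hwN : w ∈ N := fun ⟨p, hp, hpw⟩ => hp (show h p ∈ V by rw [hw p hpw]; exact hzV)
  obtain ⟨W, hwW, hWN, hW⟩ := hf w N hwN
  refine ⟨W, hwW, factor_affine f h W hW hV fun p hp => ?_⟩
  by_contra hc
  exact hWN hp ⟨p, hc, rfl⟩

variable {k : Type u} [Field k] {G X Y : Over (Spec (CommRingCat.of k))} [GrpObj G]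

theorem whiskerLeft_isoOnBasis (f : X ⟶ Y) [IsProper f.left] (hf : ∀ U : Y.left.Opens, IsIso (f.left.app U))
    (A : Over (Spec (CommRingCat.of k))) : IsoOnBasis (A ◁ f).left ∧ UniversallyClosed (A ◁ f).left := by
  have H := ((FpqcDescLib.isPullback_whiskerLeft f A).map (Over.forget _)).flip
  haveI : Subsingleton (Spec (CommRingCat.of k)) := inferInstanceAs (Subsingleton (PrimeSpectrum k))
  have hfl : Flat ((Over.forget (Spec (CommRingCat.of k))).map (snd A Y)) :=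
    MorphismProperty.pullback_snd _ _ (inferInstance : Flat A.hom)
  have huc : UniversallyClosed f.left := inferInstance
  exact ⟨@isoOnBasis_of_isPullback _ _ f.left _ _ _ _ _ H hfl inferInstance inferInstance hf,
    MorphismProperty.of_isPullback (P := @UniversallyClosed) H huc⟩

theorem one_mem_factorLocus (f : X ⟶ Y) [IsProper f.left] (hf : ∀ U : Y.left.Opens, IsIso (f.left.app U))
    (a : AlgGrp.Action G X) {T : Over (Spec (CommRingCat.of k))} (y : T ⟶ Y) (t : T.left) :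
    (lift (1 : T ⟶ G) y).left t ∈ factorLocus (G ◁ f).left (a.act ≫ f).left := by
  obtain ⟨h1, h2⟩ := whiskerLeft_isoOnBasis f hf G
  haveI := h2
  refine mem_factorLocus_of_const h1 _ _ (y.left t) fun p hp => ?_
  have hp1 : η[G].left ((toUnit T).left t) = (fst G X).left p := by
    have e := congrArg (fst G Y).left hp
    rw [← Scheme.Hom.comp_apply, ← Scheme.Hom.comp_apply, ← Over.comp_left, ← Over.comp_left, whiskerLeft_fst,
      lift_fst, Hom.one_def, Over.comp_left, Scheme.Hom.comp_apply] at e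
    exact e.symm
  obtain ⟨z, -, hz⟩ := Scheme.Pullback.exists_preimage_pullback (f := η[G].left) (g := (fst G X).left) _ _ hp1
  let P : Over (Spec (CommRingCat.of k)) :=
    Over.mk (pullback.fst η[G].left (fst G X).left ≫ (𝟙_ (Over (Spec (CommRingCat.of k)))).hom)
  let v : P ⟶ G ⊗ X := Over.homMk (pullback.snd η[G].left (fst G X).left) (by
    show pullback.snd _ _ ≫ (G ⊗ X).hom = pullback.fst _ _ ≫ _
    rw [← Over.w (fst G X), ← pullback.condition_assoc, Over.w η[G]])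
  have hv : v ≫ fst G X = (1 : P ⟶ G) := by
    rw [Hom.one_def, Subsingleton.elim (toUnit P) (Over.homMk (pullback.fst _ _) rfl)]
    exact Over.OverMorphism.ext pullback.condition.symm
  have hψ : v ≫ a.act ≫ f = v ≫ (G ◁ f) ≫ snd G Y := by
    have e := congrArg (fun m => lift (toUnit P) (v ≫ snd G X) ≫ m ≫ f) a.one_act
    simp only [← Category.assoc, lift_whiskerRight] at e
    have e2 : lift (toUnit P ≫ η[G]) (v ≫ snd G X) = v := by
      rw [← Hom.one_def, ← hv]; ext <;> simp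
    rw [e2] at e
    rw [← Category.assoc, e, whiskerLeft_snd]
    simp
  have e := congrArg (fun m : P ⟶ Y => m.left z) hψ
  simp only [Over.comp_left, Scheme.Hom.comp_apply] at e
  have hvz : v.left z = p := hz
  rw [hvz] at e
  show (a.act ≫ f).left p = _
  rw [Over.comp_left, Scheme.Hom.comp_apply, e, hp, ← Scheme.Hom.comp_apply, ← Over.comp_left, lift_snd]

theorem geometricallyIrreducible_of_connected (G : Over (Spec (CommRingCat.of k))) [GrpObj G]
    [LocallyOfFiniteType G.hom] [ConnectedSpace G.left] : GeometricallyIrreducible G.hom := by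
  obtain ⟨c, hc, hce⟩ := GrpSchLib.exists_isMaxPt (η[G].left (IsLocalRing.closedPoint k))
  haveI : IsClosedImmersion (𝟙 G : G ⟶ G).left := by rw [Over.id_left]; infer_instance
  refine GrpSchLib.geometricallyIrreducible_one hc hce (𝟙 G) ?_
  rw [← GrpSchLib.connectedComponent_one (G := G) hc hce, PreconnectedSpace.connectedComponent_eq_univ,
    Over.id_left]
  exact Set.range_eq_univ.mpr fun y => ⟨y, rfl⟩

theorem action_comp (a : AlgGrp.Action G X) {T : Over (Spec (CommRingCat.of k))} (g h : T ⟶ G) (x : T ⟶ X) :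
    lift g (lift h x ≫ a.act) ≫ a.act = lift (g * h) x ≫ a.act := by
  have e := congrArg (fun m => lift (lift g h) x ≫ m) a.mul_act
  simp only [← Category.assoc, lift_whiskerRight, lift_lift_associator_hom, lift_whiskerLeft] at e
  exact e.symm

theorem eq_of_isAlgClosed [LocallyOfFiniteType G.hom] [ConnectedSpace G.left] (f : X ⟶ Y) [IsProper f.left]
    (hf : ∀ U : Y.left.Opens, IsIso (f.left.app U)) (a : AlgGrp.Action G X) {K : Type u} [Field K]
    [IsAlgClosed K] (t : Spec (CommRingCat.of K) ⟶ Spec (CommRingCat.of k)) (g : Over.mk t ⟶ G)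
    (x₁ x₂ : Over.mk t ⟶ X) (hx : x₁ ≫ f = x₂ ≫ f) :
    lift g x₁ ≫ a.act ≫ f = lift g x₂ ≫ a.act ≫ f := by
  haveI : Subsingleton (Over.mk t).left := inferInstanceAs (Subsingleton (PrimeSpectrum K))
  let W := factorLocus (G ◁ f).left (a.act ≫ f).left
  have hW : IsOpen W := isOpen_factorLocus _ _
  let p0 : (Over.mk t).left := IsLocalRing.closedPoint K
  let S : Over (Spec (CommRingCat.of k)) := G ⊗ Over.mk t
  let m₁ : S ⟶ G ⊗ Y := lift (fst G _ * (snd G _ ≫ g)) (snd G _ ≫ x₁ ≫ f)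
  let m₂ : S ⟶ G ⊗ Y := lift (fst G _)⁻¹ (lift (fst G _ * (snd G _ ≫ g)) (snd G _ ≫ x₁) ≫ a.act ≫ f)
  let s₁ : Over.mk t ⟶ S := lift g⁻¹ (𝟙 _)
  let s₂ : Over.mk t ⟶ S := lift (1 : Over.mk t ⟶ G) (𝟙 _)
  have h₁ : m₁.left (s₁.left p0) ∈ W := by
    have e : s₁ ≫ m₁ = lift (1 : Over.mk t ⟶ G) (x₁ ≫ f) := by
      simp only [s₁, m₁, comp_lift, MonObj.comp_mul, lift_fst, lift_snd_assoc, Category.id_comp, inv_mul_cancel]
    rw [← Scheme.Hom.comp_apply, ← Over.comp_left, e]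
    exact one_mem_factorLocus f hf a _ _
  have h₂ : m₂.left (s₂.left p0) ∈ W := by
    have e : s₂ ≫ m₂ = lift (1 : Over.mk t ⟶ G) (lift g x₁ ≫ a.act ≫ f) := by
      simp only [s₂, m₂, comp_lift, comp_lift_assoc, GrpObj.comp_inv, MonObj.comp_mul, lift_fst, lift_snd_assoc,
        Category.id_comp, inv_one, _root_.one_mul]
    rw [← Scheme.Hom.comp_apply, ← Over.comp_left, e]
    exact one_mem_factorLocus f hf a _ _
  haveI := geometricallyIrreducible_of_connected G
  haveI : Subsingleton (Spec (CommRingCat.of k)) := inferInstanceAs (Subsingleton (PrimeSpectrum k))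
  haveI : IrreducibleSpace (Spec (CommRingCat.of K)) := inferInstanceAs (IrreducibleSpace (PrimeSpectrum K))
  haveI : IrreducibleSpace ↥(pullback G.hom t) := inferInstance
  have hne := nonempty_preirreducible_inter (X := ↥(pullback G.hom t)) (hW.preimage m₁.left.continuous) (hW.preimage m₂.left.continuous)
    ⟨_, h₁⟩ ⟨_, h₂⟩
  haveI : JacobsonSpace ↥(pullback G.hom t) := LocallyOfFiniteType.jacobsonSpace (pullback.snd G.hom t)
  obtain ⟨c, ⟨hc₁, hc₂⟩, hc⟩ := nonempty_inter_closedPoints (X := ↥(pullback G.hom t)) hne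
    (((hW.preimage m₁.left.continuous).inter (hW.preimage m₂.left.continuous)).isLocallyClosed)
  let s : Over.mk t ⟶ S := Over.homMk (pointOfClosedPoint (pullback.snd G.hom t) c hc) (by
    show pointOfClosedPoint (pullback.snd G.hom t) c hc ≫ pullback.fst G.hom t ≫ G.hom = t
    rw [pullback.condition, pointOfClosedPoint_comp_assoc])
  have hs : s ≫ snd G _ = 𝟙 _ := Over.OverMorphism.ext (pointOfClosedPoint_comp _ _ _)
  have hsp : s.left p0 = c := pointOfClosedPoint_apply _ _ _ _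
  let h : Over.mk t ⟶ G := s ≫ fst G _
  have e₁ : s ≫ m₁ = lift (h * g) x₁ ≫ (G ◁ f) := by
    simp only [m₁, h, comp_lift, MonObj.comp_mul, reassoc_of% hs, lift_whiskerLeft]
  have hx₁ : lift (h * g) x₁ ≫ (G ◁ f) = lift (h * g) x₂ ≫ (G ◁ f) := by
    rw [lift_whiskerLeft, lift_whiskerLeft, hx]
  have step₁ : lift (h * g) x₁ ≫ a.act ≫ f = lift (h * g) x₂ ≫ a.act ≫ f := by
    refine Over.OverMorphism.ext ?_
    rw [Over.comp_left, Over.comp_left (g := a.act ≫ f)]
    refine comp_eq_of_mem _ _ (by rw [← Over.comp_left, ← Over.comp_left, hx₁]) p0 ?_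
    rw [← Over.comp_left, ← e₁]
    change m₁.left (s.left p0) ∈ W
    rw [hsp]
    exact hc₁
  have e₂ : s ≫ m₂ = lift h⁻¹ (lift (h * g) x₁ ≫ a.act) ≫ (G ◁ f) := by
    simp only [m₂, h, comp_lift, comp_lift_assoc, GrpObj.comp_inv, MonObj.comp_mul, reassoc_of% hs,
      lift_whiskerLeft, Category.assoc]
  have hx₂ : lift h⁻¹ (lift (h * g) x₁ ≫ a.act) ≫ (G ◁ f) =
      lift h⁻¹ (lift (h * g) x₂ ≫ a.act) ≫ (G ◁ f) := by
    rw [lift_whiskerLeft, lift_whiskerLeft, Category.assoc, Category.assoc, step₁]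
  have step₂ : lift h⁻¹ (lift (h * g) x₁ ≫ a.act) ≫ a.act ≫ f =
      lift h⁻¹ (lift (h * g) x₂ ≫ a.act) ≫ a.act ≫ f := by
    refine Over.OverMorphism.ext ?_
    rw [Over.comp_left, Over.comp_left (g := a.act ≫ f)]
    refine comp_eq_of_mem _ _ (by rw [← Over.comp_left, ← Over.comp_left, hx₂]) p0 ?_
    rw [← Over.comp_left, ← e₂]
    change m₂.left (s.left p0) ∈ W
    rw [hsp]
    exact hc₂
  rw [← Category.assoc, action_comp, inv_mul_cancel_left, Category.assoc, ← Category.assoc (lift h⁻¹ _),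
    action_comp, inv_mul_cancel_left, Category.assoc] at step₂
  exact step₂

theorem exists_algClosed_point {P : Scheme.{u}} (w : P) : ∃ (K : Type u) (_ : Field K) (_ : IsAlgClosed K)
    (c : Spec (CommRingCat.of K) ⟶ P), c (IsLocalRing.closedPoint K) = w := by
  let R : CommRingCat.{u} := P.residueField w
  obtain ⟨g, -⟩ : ∃ g : R ⟶ CommRingCat.of (AlgebraicClosure (P.residueField w)), True :=
    ⟨CommRingCat.ofHom (algebraMap (P.residueField w) (AlgebraicClosure (P.residueField w))), trivial⟩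
  exact ⟨AlgebraicClosure (P.residueField w), inferInstance, inferInstance,
    Spec.map g ≫ P.fromSpecResidueField w, by
      rw [Scheme.Hom.comp_apply]; exact Scheme.fromSpecResidueField_apply _ _⟩

theorem const_on_fibres [LocallyOfFiniteType G.hom] [ConnectedSpace G.left] (f : X ⟶ Y) [IsProper f.left]
    (hf : ∀ U : Y.left.Opens, IsIso (f.left.app U)) (a : AlgGrp.Action G X)
    (p q : ↥(G ⊗ X).left) (hpq : (G ◁ f).left p = (G ◁ f).left q) :
    (a.act ≫ f).left p = (a.act ≫ f).left q := by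
  obtain ⟨w, hw1, hw2⟩ := Scheme.Pullback.exists_preimage_pullback p q hpq
  obtain ⟨K, _, _, c, hc⟩ := exists_algClosed_point w
  let t := c ≫ pullback.fst (G ◁ f).left (G ◁ f).left ≫ (G ⊗ X).hom
  let u₁ : Over.mk t ⟶ G ⊗ X := Over.homMk (c ≫ pullback.fst _ _) (by simp [t])
  let u₂ : Over.mk t ⟶ G ⊗ X := Over.homMk (c ≫ pullback.snd _ _) (by
    show (c ≫ pullback.snd _ _) ≫ (G ⊗ X).hom = _
    rw [Category.assoc, ← Over.w (G ◁ f), ← pullback.condition_assoc, Over.w (G ◁ f)]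
    rfl)
  have hu : u₁ ≫ (G ◁ f) = u₂ ≫ (G ◁ f) := Over.OverMorphism.ext (by
    show (c ≫ pullback.fst _ _) ≫ (G ◁ f).left = (c ≫ pullback.snd _ _) ≫ (G ◁ f).left
    simp only [Category.assoc, pullback.condition])
  have e1 := congrArg (· ≫ fst G Y) hu
  have e2 := congrArg (· ≫ snd G Y) hu
  simp only [Category.assoc, whiskerLeft_fst, whiskerLeft_snd] at e1 e2
  have h' := eq_of_isAlgClosed f hf a t (u₁ ≫ fst G X) (u₁ ≫ snd G X) (u₂ ≫ snd G X)
    (by simpa only [Category.assoc] using e2)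
  rw [show lift (u₁ ≫ fst G X) (u₁ ≫ snd G X) = u₁ by ext <;> simp,
    show lift (u₁ ≫ fst G X) (u₂ ≫ snd G X) = u₂ by ext <;> simp [e1]] at h'
  let o : (Over.mk t).left := IsLocalRing.closedPoint K
  have h'' := congrArg (fun m : Over.mk t ⟶ Y => m.left o) h'
  have hp : pullback.fst (G ◁ f).left (G ◁ f).left (c o) = p := by rw [hc, hw1]
  have hq : pullback.snd (G ◁ f).left (G ◁ f).left (c o) = q := by rw [hc, hw2]
  rw [← hp, ← hq]
  exact h''

/-- Blanchard's lemma. -/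
theorem existsUnique_action [LocallyOfFiniteType G.hom] [ConnectedSpace G.left] (f : X ⟶ Y) [IsProper f.left]
    (hf : ∀ U : Y.left.Opens, IsIso (f.left.app U)) (a : AlgGrp.Action G X) :
    ∃! b : AlgGrp.Action G Y, (G ◁ f) ≫ b.act = a.act ≫ f := by
  have hepi : ∀ A : Over (Spec (CommRingCat.of k)), Epi (A ◁ f) := fun A => by
    obtain ⟨h1, h2⟩ := whiskerLeft_isoOnBasis f hf A
    haveI := h2
    haveI : Epi ((Over.forget _).map (A ◁ f)) :=
      GITQuot.epi_of_surjective_of_app_injective _ h1.surjective h1.app_injective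
    exact (Over.forget _).epi_of_epi_map ‹_›
  obtain ⟨h1, h2⟩ := whiskerLeft_isoOnBasis f hf G
  haveI := h2
  obtain ⟨g, hg, -⟩ := exists_factor h1 (a.act ≫ f).left (const_on_fibres f hf a)
  haveI : Epi (G ◁ f).left := GITQuot.epi_of_surjective_of_app_injective _ h1.surjective h1.app_injective
  let act : G ⊗ Y ⟶ Y := Over.homMk g (by
    rw [← cancel_epi (G ◁ f).left, reassoc_of% hg, Over.w, Over.w])
  have hact : (G ◁ f) ≫ act = a.act ≫ f := Over.OverMorphism.ext hg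
  refine ⟨⟨act, ?_, ?_⟩, hact, ?_⟩
  · haveI := hepi (𝟙_ _)
    rw [← cancel_epi ((𝟙_ _) ◁ f), whisker_exchange_assoc, hact, ← Category.assoc, a.one_act]
    simp
  · haveI := hepi (G ⊗ G)
    rw [← cancel_epi ((G ⊗ G) ◁ f), whisker_exchange_assoc, hact, ← Category.assoc, a.mul_act,
      Category.assoc, Category.assoc, ← hact, tensor_whiskerLeft, Category.assoc, Category.assoc,
      Iso.inv_hom_id_assoc, ← whiskerLeft_comp_assoc, ← whiskerLeft_comp_assoc, ← hact]
  · rintro ⟨b, hb₁, hb₂⟩ hb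
    haveI := hepi G
    have : b = act := (cancel_epi (G ◁ f)).1 (hb.trans hact.symm)
    subst this
    rfl

end Groth.Agent.Blanchard
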