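import Groth.Agent.GITQuot.Basic
import Mathlib.AlgebraicGeometry.Morphisms.Proper
import Mathlib.AlgebraicGeometry.Morphisms.Flat

/-! Morphisms constant on the fibres of a proper morphism with `f_* O = O` descend. -/

universe u

open CategoryTheory Limits AlgebraicGeometry TopologicalSpace Opposite

namespace Groth.Agent.Blanchard

/-- `f_* O = O` on a basis of affine opens. -/
def IsoOnBasis {X Y : Scheme.{u}} (f : X ⟶ Y) : Prop :=
  ∀ (y : Y) (U : Y.Opens), y ∈ U → ∃ W : Y.Opens, y ∈ W ∧ W ≤ U ∧ IsIso (f.app W)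

variable {X Y : Scheme.{u}} {f : X ⟶ Y}

theorem isoOnBasis_of_forall (hf : ∀ U : Y.Opens, IsIso (f.app U)) : IsoOnBasis f :=
  fun _ U hy => ⟨U, hy, le_rfl, hf U⟩

theorem IsoOnBasis.app_injective (hf : IsoOnBasis f) (U : Y.Opens) : Function.Injective (f.app U) := by
  rw [injective_iff_map_eq_zero]
  intro s hs
  refine Y.IsSheaf.section_ext fun y hy => ?_
  obtain ⟨W, hyW, hWU, hW⟩ := hf y U hy
  haveI := hW
  refine ⟨W, hWU, hyW, (ConcreteCategory.bijective_of_isIso (f.app W)).1 ?_⟩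
  rw [← ConcreteCategory.comp_apply, f.naturality]
  simp [hs]

theorem IsoOnBasis.surjective [UniversallyClosed f] (hf : IsoOnBasis f) : Function.Surjective f := by
  intro y
  by_contra hy
  let U : Y.Opens := ⟨(Set.range f)ᶜ, f.isClosedMap.isClosed_range.isOpen_compl⟩
  have hyU : y ∈ U := fun ⟨x, hx⟩ => hy ⟨x, hx⟩
  haveI : Nonempty U := ⟨⟨y, hyU⟩⟩
  have hne : Nontrivial Γ(Y, U) := inferInstance
  have hem : f ⁻¹ᵁ U = ⊥ := by
    ext x
    exact ⟨fun hx => absurd ⟨x, rfl⟩ hx, fun hx => absurd hx id⟩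
  have hsub : Subsingleton Γ(X, f ⁻¹ᵁ U) := by
    rw [hem]
    exact CommRingCat.subsingleton_of_isTerminal (X.sheaf.isTerminalOfEmpty)
  obtain ⟨a, b, hab⟩ := hne
  exact hab (hf.app_injective U (Subsingleton.elim _ _))

/-- Descent of morphisms constant on fibres. -/
theorem exists_factor [UniversallyClosed f] (hf : IsoOnBasis f) {Z : Scheme.{u}} (h : X ⟶ Z)
    (hh : ∀ a b : X, f a = f b → h a = h b) : ∃! g : Y ⟶ Z, f ≫ g = h := by
  have hs := hf.surjective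
  haveI := GITQuot.epi_of_surjective_of_app_injective f hs hf.app_injective
  refine existsUnique_of_exists_of_unique ?_ fun g g' e e' => by rw [← cancel_epi f, e, e']
  choose σ hσ using hs
  let φ : Y → Z := fun y => h (σ y)
  have hφ : ∀ x, φ (f x) = h x := fun x => hh _ _ (hσ (f x))
  have hcont : Continuous φ := by
    rw [(f.isClosedMap.isQuotientMap f.continuous fun y => ⟨σ y, hσ y⟩).continuous_iff]
    exact (funext hφ : φ ∘ f = h) ▸ h.continuous
  have key : ∀ y : Y, ∃ (W : Y.Opens) (V : Z.Opens) (g : (W : Scheme.{u}) ⟶ Z),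
      y ∈ W ∧ (f ∣_ W) ≫ g = (f ⁻¹ᵁ W).ι ≫ h := by
    intro y
    obtain ⟨V, hV, hyV, -⟩ := exists_isAffineOpen_mem_and_subset (show φ y ∈ (⊤ : Z.Opens) from trivial)
    obtain ⟨W, hyW, hWV, hW⟩ := hf y ⟨φ ⁻¹' V, V.isOpen.preimage hcont⟩ hyV
    haveI := hW
    have e : f ⁻¹ᵁ W ≤ h ⁻¹ᵁ V := fun x hx => by
      show h x ∈ V
      rw [← hφ]
      exact hWV hx
    haveI : IsAffine (V : Scheme.{u}) := hV
    haveI : IsIso (f ∣_ W).appTop := by
      show IsIso ((f ∣_ W).app ⊤)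
      rw [morphismRestrict_app]
      have h1 : IsIso (f.app (W.ι ''ᵁ ⊤)) := by rw [Scheme.Opens.ι_image_top]; exact hW
      exact @IsIso.comp_isIso _ _ _ _ _ _ _ h1 (Functor.map_isIso _ _)
    let ψ := (h.resLE V (f ⁻¹ᵁ W) e).appTop ≫ inv (f ∣_ W).appTop
    let g : (W : Scheme.{u}) ⟶ V := (W : Scheme.{u}).toSpecΓ ≫ Spec.map ψ ≫ (V : Scheme.{u}).isoSpec.inv
    refine ⟨W, V, g ≫ V.ι, hyW, ?_⟩
    have hg : (f ∣_ W) ≫ g = h.resLE V (f ⁻¹ᵁ W) e := by
      refine (cancel_mono (V : Scheme.{u}).isoSpec.hom).1 ?_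
      simp only [g, Category.assoc, Iso.inv_hom_id, Category.comp_id]
      rw [Scheme.isoSpec_hom, Scheme.toSpecΓ_naturality_assoc, Scheme.toSpecΓ_naturality, ← Spec.map_comp]
      simp [ψ]
    rw [reassoc_of% hg, Scheme.Hom.resLE_comp_ι]
  choose W V g hyW hg using key
  let 𝒰 : Y.OpenCover := Y.openCoverOfIsOpenCover W (by
    rw [IsOpenCover, eq_top_iff]
    exact fun y _ => Opens.mem_iSup.2 ⟨y, hyW y⟩)
  have hcompat : ∀ i j : Y, pullback.fst (W i).ι (W j).ι ≫ g i = pullback.snd (W i).ι (W j).ι ≫ g j := fun i j => by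
    let q := pullback.fst (W i).ι (W j).ι ≫ (W i).ι
    haveI := GITQuot.epi_pullback_snd f (fun y => ⟨σ y, hσ y⟩) hf.app_injective q
    refine (cancel_epi (pullback.snd f q)).1 ?_
    have hlift : ∀ (k : Y) (r : pullback f q ⟶ (W k : Scheme.{u})), r ≫ (W k).ι = pullback.snd f q ≫ q →
        r ≫ g k = pullback.fst f q ≫ h := by
      intro k r hr
      let l : pullback f q ⟶ (f ⁻¹ᵁ W k : Scheme.{u}) :=
        IsOpenImmersion.lift (f ⁻¹ᵁ W k).ι (pullback.fst f q) (by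
          rintro _ ⟨z, rfl⟩
          rw [Scheme.Opens.range_ι]
          show f (pullback.fst f q z) ∈ W k
          rw [← Scheme.Hom.comp_apply, pullback.condition, ← hr, Scheme.Hom.comp_apply]
          exact (r z).2)
      have hl : l ≫ (f ⁻¹ᵁ W k).ι = pullback.fst f q := IsOpenImmersion.lift_fac _ _ _
      have hr' : l ≫ (f ∣_ W k) = r := by
        rw [← cancel_mono (W k).ι, Category.assoc, morphismRestrict_ι, reassoc_of% hl, hr, pullback.condition]
      rw [← hr', Category.assoc, hg, reassoc_of% hl]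
    rw [← Category.assoc, ← Category.assoc, hlift i _ (by simp [q]), hlift j _ (by simp [q, pullback.condition])]
  refine ⟨𝒰.glueMorphisms g hcompat, ?_⟩
  refine (Scheme.Cover.hom_ext (X.openCoverOfIsOpenCover (fun y => f ⁻¹ᵁ W y) (by
    rw [IsOpenCover, eq_top_iff]
    exact fun x _ => Opens.mem_iSup.2 ⟨f x, hyW (f x)⟩)) _ _ fun y => ?_)
  show (f ⁻¹ᵁ W y).ι ≫ f ≫ 𝒰.glueMorphisms g hcompat = (f ⁻¹ᵁ W y).ι ≫ h
  rw [← morphismRestrict_ι_assoc, ← hg]
  congr 1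
  exact 𝒰.ι_glueMorphisms g hcompat y

/-- `f_* O = O` is preserved by flat base change. -/
theorem isoOnBasis_of_isPullback {X' Y' : Scheme.{u}} {g' : X' ⟶ X} {f' : X' ⟶ Y'} {q : Y' ⟶ Y}
    (H : IsPullback g' f' f q) [Flat q] [QuasiCompact f] [QuasiSeparated f] (hf : ∀ U : Y.Opens, IsIso (f.app U)) :
    IsoOnBasis f' := by
  intro y U hy
  obtain ⟨S, hS, hqS, -⟩ := exists_isAffineOpen_mem_and_subset (show q y ∈ (⊤ : Y.Opens) from trivial)
  obtain ⟨W, hW, hyW, hWU⟩ := exists_isAffineOpen_mem_and_subset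
    (show y ∈ U ⊓ q ⁻¹ᵁ S from ⟨hy, hqS⟩)
  have hWS : W ≤ q ⁻¹ᵁ S := hWU.trans inf_le_right
  refine ⟨W, hyW, hWU.trans inf_le_left, ?_⟩
  have hUY : f' ⁻¹ᵁ W = g' ⁻¹ᵁ (f ⁻¹ᵁ S) ⊓ f' ⁻¹ᵁ W := by
    refine le_antisymm (le_inf (fun x hx => ?_) le_rfl) inf_le_right
    show f (g' x) ∈ S
    rw [← Scheme.Hom.comp_apply, H.w, Scheme.Hom.comp_apply]
    exact hWS hx
  have hiso := isIso_pushoutSection_of_isQuasiSeparated_of_flat_right H (US := S) (UT := W) (UX := f ⁻¹ᵁ S)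
    hWS le_rfl hUY hS hW (f.isCompact_preimage hS.isCompact) (f.isQuasiSeparated_preimage hS.isQuasiSeparated)
  rw [isIso_pushoutSection_iff] at hiso
  haveI : IsIso (f.appLE S (f ⁻¹ᵁ S) le_rfl) := by
    rw [← Scheme.Hom.app_eq_appLE]; exact hf S
  rw [Scheme.Hom.app_eq_appLE]
  exact hiso.isIso_inr_of_isIso

end Groth.Agent.Blanchard
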